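import Cfsg.Agent.H701.S8.Gen
import Cfsg.Agent.S0000
import Cfsg.Agent.H149.Sp.Base
import Cfsg.Agent.H867.TitsOut
import Cfsg.Agent.H603.FD.Spor
import Cfsg.Agent.H672.SporIM.RankRows
import Cfsg.Agent.H765.DS.HSMcL
import Cfsg.Agent.H843.IMC.Co2A
import Cfsg.Agent.H843.IMC.Co3A
import Cfsg.Agent.NotCT.Orders
import Cfsg.Agent.H854.Ore.J4

/-!
# S4908, the box `J4 / SOC1` (helper701)

`soc1` : an almost simple group whose degrees are degrees of `J4` has socle `J4`.
-/

set_option autoImplicit false

namespace Cfsg.Agent.H701.S8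

open Cfsg Subgroup
open Cfsg.Agent.H691.AN (AlmostSimple)
open Cfsg.Agent.H704.S8 (Deg Soc1)

universe u v

namespace JFour

open Cfsg.Agent.H854.Ore Cfsg.Agent.H854.JM Cfsg.Agent.H854.JM.NonLocal

/-- the residues of the degrees of `J4` modulo 43 and 37 -/
def adm (d : ℕ) : Bool :=
  ([0, 1, 14, 29, 42] : List ℕ).contains (d % 43) && ([0, 1, 12, 25, 36] : List ℕ).contains (d % 37)

theorem adm_of {d : ℕ} (hd : d ∈ charDegrees Spor.J4) : adm d = true := by
  have hfin : Finite Spor.J4 := H858.FixJ4.facts.1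
  have := simple_J
  obtain ⟨χ, rfl⟩ := hd
  have h1 := H511.Ore.res_of_has noncomm_J card''
    (hasJ ⟨43, 1, 14, 3, [(0, 0), (1, 3), (14, -1), (29, 1), (42, -3)], 3, true⟩ (by simp [cdJ]))
    (List.all_eq_true.1 hcd _ (by simp [cdJ])) χ
  have h2 := H511.Ore.res_of_has noncomm_J card''
    (hasJ ⟨37, 1, 12, 3, [(0, 0), (1, 3), (12, -1), (25, 1), (36, -3)], 3, true⟩ (by simp [cdJ]))
    (List.all_eq_true.1 hcd _ (by simp [cdJ])) χ
  obtain ⟨d, hd⟩ : ∃ d, d = charDegree (χ : Spor.J4 → ℂ) := ⟨_, rfl⟩
  rw [← hd] at h1 h2 ⊢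
  simp only [List.any_cons, List.any_nil, Bool.or_false, Bool.or_eq_true, Nat.beq_eq] at h1 h2
  simp only [adm, Bool.and_eq_true, List.contains_iff_mem, List.mem_cons, List.not_mem_nil, or_false]
  exact ⟨h1, h2⟩

/-- the prime powers dividing `|J4|` -/
theorem pp : ((List.range 44).all fun p => (List.range 22).all fun k =>
    !(Nat.blt 1 p) || Nat.beq k 0 || !(Nat.beq (86775571046077562880 % p ^ k) 0) || !(adm (p ^ k))) = true := by
  decide +kernel

theorem alts : ((List.range 13).all fun m => Nat.blt m 5 || (!(adm ((m - 1) * 1)) && !(adm ((m - 1) * 2)) &&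
    !(adm ((m - 1) * 4)))) = true := by decide +kernel

end JFour

open JFour in
/-- **The box `J4 / SOC1` of S4908.** -/
theorem soc1_j4 {X : Type v} [Group X] [Finite X] (hX : Spor.IsoJ4 X) (D : Set ℕ) (hD : Deg 1 X D) :
    Soc1.{u} D X := by
  rcases hD with hD | ⟨h, -⟩
  swap
  · exact absurd h (by norm_num)
  have hN := NotCT.Orders.j4 hX
  have hadm : ∀ d ∈ D, adm d = true := by
    intro d hd
    rw [hD] at hd
    obtain ⟨e⟩ := hX
    exact adm_of (H424.DegTools.charDegrees_of_surjective e.symm.toMonoidHom e.symm.surjective hd)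
  have hdvd : ∀ d ∈ D, d ∣ 86775571046077562880 := by
    intro d hd
    rw [hD] at hd
    rw [← hN]
    exact H424.DegTools.dvd_card hd
  intro A _ _ S hA hAD
  have hs := hA.simple
  have no : ∀ {d : ℕ}, adm d = false → d ∉ D := fun h hd => by rw [hadm _ hd] at h; exact absurd h (by decide)
  have kp : ∀ {p : ℕ}, p.Prime → ¬ p ∣ 86775571046077562880 → p ∣ Nat.card S → False :=
    fun hp h1 h2 => kill_prime hA hAD hdvd hp h1 h2
  rcases PreUniq.known_cases (Cfsg.Agent.S0000.result (G := S)) with h | ⟨m, hm, ⟨e⟩⟩ | ⟨p, hp, h⟩ | h | h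
  · exfalso
    have : Fact (Nat.card S).Prime := ⟨h⟩
    have : IsCyclic S := isCyclic_of_prime_card (p := Nat.card S) rfl
    exact hA.nonab inferInstance
  · exfalso
    have h13 : m < 13 := by
      by_contra hcon
      refine kp (p := 13) (by norm_num) (by norm_num) ?_
      rw [Nat.card_congr e.toEquiv]
      have h1 := H548.RowAlt.card_alt (n := m) (by omega)
      have h2 : 13 ∣ m.factorial := (Nat.Prime.dvd_factorial (by norm_num)).2 (by omega)
      rw [← h1] at h2
      exact (Nat.Coprime.dvd_mul_left (by norm_num)).1 h2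
    obtain ⟨t, ht, htD⟩ := alt hA hAD hm e
    have h1 := List.all_eq_true.1 alts m (List.mem_range.2 h13)
    simp only [Bool.or_eq_true, Bool.and_eq_true, Bool.not_eq_true', Nat.blt_eq] at h1
    rcases h1 with h1 | ⟨⟨h1, h2⟩, h3⟩
    · omega
    · have h4 : t = 1 ∨ t = 2 ∨ t = 4 := by
        have h5 := Nat.le_of_dvd (by norm_num) ht
        interval_cases t <;> simp_all
      rcases h4 with rfl | rfl | rfl
      · exact no h1 htD
      · exact no h2 htD
      · exact no h3 htD
  · exfalso
    obtain ⟨k, hk, hkD⟩ := lie hA hAD hp h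
    have h1 := hdvd _ hkD
    have hp44 : p < 44 := by
      have h2 : p ∣ 86775571046077562880 := (dvd_pow_self p hk.ne').trans h1
      rw [show 86775571046077562880 = 2 ^ 21 * 3 ^ 3 * 5 * 7 * 11 ^ 3 * 23 * 29 * 31 * 37 * 43 by norm_num,
        hp.dvd_mul, hp.dvd_mul, hp.dvd_mul, hp.dvd_mul, hp.dvd_mul, hp.dvd_mul, hp.dvd_mul, hp.dvd_mul,
        hp.dvd_mul] at h2
      rcases h2 with ((((((((h | h) | h) | h) | h) | h) | h) | h) | h) | h
      · have := Nat.le_of_dvd (by norm_num) (hp.dvd_of_dvd_pow h); omega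
      · have := Nat.le_of_dvd (by norm_num) (hp.dvd_of_dvd_pow h); omega
      · have := Nat.le_of_dvd (by norm_num) h; omega
      · have := Nat.le_of_dvd (by norm_num) h; omega
      · have := Nat.le_of_dvd (by norm_num) (hp.dvd_of_dvd_pow h); omega
      all_goals have := Nat.le_of_dvd (by norm_num) h; omega
    have hk22 : k < 22 := by
      by_contra hcon
      have h3 : p ^ 22 ∣ 86775571046077562880 := (pow_dvd_pow p (by omega)).trans h1
      have hp2 := hp.two_le
      interval_cases p <;> revert h3 <;> decide +kernel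
    have h2 := List.all_eq_true.1 (List.all_eq_true.1 pp p (List.mem_range.2 hp44)) k (List.mem_range.2 hk22)
    simp only [Bool.or_eq_true, Bool.not_eq_true', Nat.beq_eq] at h2
    rcases h2 with ((h2 | h2) | h2) | h2
    · have h3 : Nat.blt 1 p = true := by rw [Nat.blt_eq]; exact hp.one_lt
      rw [h3] at h2
      exact absurd h2 (by decide)
    · omega
    · have h3 : Nat.beq (86775571046077562880 % p ^ k) 0 = true := by
        rw [Nat.mod_eq_zero_of_dvd h1]
        rfl
      rw [h3] at h2
      exact absurd h2 (by decide)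
    · exact no h2 hkD
  · exact (kp (p := 13) (by norm_num) (by norm_num) (by rw [NotCT.Orders.tits h]; norm_num)).elim
  · have hi := H149.Sp.card_out_dvd_two h
    have kd : ∀ {d : ℕ}, d ∈ charDegrees S → adm d = false → adm (d * 2) = false → False :=
      fun hd h1 h2 => kill_two hA hAD hi hd (no h1) (no h2)
    rcases h with h | h | h | h | h | h | h | h | h | h | h | h | h | h | h | h | h | h | h | h | h | h | h | h | h | h
    · exact (kd (d := 10) (H603.FD.Spor.m11 (UGT.End.MEleven.isM11 h)).1 (by decide +kernel) (by decide +kernel)).elim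
    · exact (kd (d := 16) (H603.FD.Spor.m12 (H603.FD.Spor.isM12 h)).1 (by decide +kernel) (by decide +kernel)).elim
    · exact (kd (d := 45) (H603.FD.Spor.m22 (H417.RecogMathieu.isM22 h)).2.1 (by decide +kernel)
        (by decide +kernel)).elim
    · exact (kd (d := 45) (H603.FD.Spor.m23 (H417.RecogMathieu.isM23 h)).2.1 (by decide +kernel)
        (by decide +kernel)).elim
    · exact (kd (d := 1035) (H603.FD.Spor.m24 (H417.RecogMathieu.isM24 h)).1 (by decide +kernel)
        (by decide +kernel)).elim
    · exact (kp (p := 19) (by norm_num) (by norm_num) (by rw [NotCT.Orders.j1 h]; norm_num)).elim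
    · exact (kd (d := 63) (H672.SporIM.j2 h).1 (by decide +kernel) (by decide +kernel)).elim
    · exact (kp (p := 17) (by norm_num) (by norm_num) (by rw [NotCT.Orders.j3 h]; norm_num)).elim
    · obtain ⟨e⟩ := h
      obtain ⟨f⟩ := hX
      exact ⟨e.trans f.symm⟩
    · exact (kp (p := 13) (by norm_num) (by norm_num) (by rw [NotCT.Orders.co1 h]; norm_num)).elim
    · obtain ⟨e⟩ := h
      exact (kd (d := 23) (H424.DegTools.charDegrees_of_surjective e.toMonoidHom e.surjective
        H843.IMC.Co2A.hasDeg_23) (by decide +kernel) (by decide +kernel)).elim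
    · obtain ⟨e⟩ := h
      exact (kd (d := 23) (H424.DegTools.charDegrees_of_surjective e.toMonoidHom e.surjective
        H843.IMC.Co3A.hasDeg_23) (by decide +kernel) (by decide +kernel)).elim
    · exact (kd (d := 252) (H424.DegTools.mem_charDegrees.2 (H765.DS.HSMcL.mcl_252 h)) (by decide +kernel)
        (by decide +kernel)).elim
    · exact (kd (d := 77) (H424.DegTools.mem_charDegrees.2 (H765.DS.HSMcL.hs_77 h)) (by decide +kernel)
        (by decide +kernel)).elim
    · exact (kp (p := 13) (by norm_num) (by norm_num) (by rw [NotCT.Orders.suz h]; norm_num)).elim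
    · exact (kp (p := 17) (by norm_num) (by norm_num) (by rw [NotCT.Orders.he h]; norm_num)).elim
    · exact (kp (p := 13) (by norm_num) (by norm_num) (by rw [NotCT.Orders.ru h]; norm_num)).elim
    · exact (kp (p := 19) (by norm_num) (by norm_num) (by rw [NotCT.Orders.on h]; norm_num)).elim
    · exact (kp (p := 67) (by norm_num) (by norm_num) (by rw [NotCT.Orders.ly h]; norm_num)).elim
    · exact (kp (p := 13) (by norm_num) (by norm_num) (by rw [NotCT.Orders.fi22 h]; norm_num)).elim
    · exact (kp (p := 13) (by norm_num) (by norm_num) (by rw [NotCT.Orders.fi23 h]; norm_num)).elim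
    · exact (kp (p := 13) (by norm_num) (by norm_num) (by rw [NotCT.Orders.fi24 h]; norm_num)).elim
    · exact (kp (p := 19) (by norm_num) (by norm_num) (by rw [NotCT.Orders.hn h]; norm_num)).elim
    · exact (kp (p := 13) (by norm_num) (by norm_num) (by rw [NotCT.Orders.th h]; norm_num)).elim
    · exact (kp (p := 13) (by norm_num) (by norm_num) (by rw [NotCT.Orders.b h]; norm_num)).elim
    · exact (kp (p := 13) (by norm_num) (by norm_num) (by rw [NotCT.Orders.m h]; norm_num)).elim

end Cfsg.Agent.H701.S8
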