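import Cfsg.Agent.H704.S8.Defs
import Cfsg.Agent.S4760
import Cfsg.Agent.H424.DegTools
import Cfsg.Agent.H816.OutEmb
import Cfsg.Agent.H548.RowAlt
import Cfsg.Agent.H691.StExt
import Cfsg.Agent.H996.AllSplit
import Cfsg.Agent.NotCT.Two
import Cfsg.Agent.NotCT.Fam
import Cfsg.Agent.PreUniq.Cases

/-!
# S4908, SOC1: general lemmas for an almost simple group whose degrees lie in `D` (helper701)

* `exists_over` : a degree `d` of the socle gives `d * t ∈ D` for some `t` dividing `|Out S|`;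
* `kill_prime` : the primes of `|S|` divide the degrees in `D` (Itô–Michler);
* `kill_two` : `|Out S| ∣ 2`;
* `lie` : a socle of Lie type gives a prime power in `D` (the Steinberg character extends);
* `alt` : a socle `A_m` gives `(m - 1) * t ∈ D`, `t ∣ 4`.
-/

set_option autoImplicit false

namespace Cfsg.Agent.H701.S8

open Cfsg Subgroup
open Cfsg.Agent.H691.AN (AlmostSimple)

universe u v

/-- Itô–Michler for a nonabelian simple group -/
theorem exists_dvd {X : Type u} [Group X] [Finite X] [IsSimpleGroup X] (hna : ¬ IsMulCommutative X) {p : ℕ}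
    (hp : p.Prime) (hpX : p ∣ Nat.card X) : ∃ e ∈ charDegrees X, p ∣ e := by
  have : Fact p.Prime := ⟨hp⟩
  obtain ⟨P⟩ : Nonempty (Sylow p X) := inferInstance
  by_contra hcon
  obtain ⟨h1, h2⟩ := (Cfsg.Agent.S4760.result p P).2 (fun χ hdiv => hcon ⟨_, ⟨χ, rfl⟩, hdiv⟩)
  rcases h1.eq_bot_or_eq_top with h3 | h3
  · have h4 := P.card_eq_multiplicity
    rw [h3, Subgroup.card_bot] at h4
    have h5 : (Nat.card X).factorization p ≠ 0 := (hp.factorization_pos_of_dvd Nat.card_pos.ne' hpX).ne'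
    exact absurd h4 (Nat.one_lt_pow h5 hp.one_lt).ne
  · apply hna
    refine ⟨⟨fun a b => ?_⟩⟩
    have h4 := h2.is_comm.comm ⟨a, by rw [h3]; exact Subgroup.mem_top a⟩ ⟨b, by rw [h3]; exact Subgroup.mem_top b⟩
    exact congrArg Subtype.val h4

section

variable {A : Type u} [Group A] [Finite A] {S : Subgroup A} {D : Set ℕ}

theorem exists_over (hA : AlmostSimple A S) (hD : charDegrees A ⊆ D) {d : ℕ} (hd : d ∈ charDegrees S) :
    ∃ t, t ∣ Nat.card (Out S) ∧ d * t ∈ D := by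
  have := hA.normal
  obtain ⟨x, hx, h1, h2⟩ := H424.DegTools.clifford_up S hd
  obtain ⟨t, rfl⟩ := h1
  have h0 : 0 < d := Nat.pos_of_dvd_of_pos (H424.DegTools.dvd_card hd) Nat.card_pos
  rw [Nat.mul_div_cancel_left _ h0] at h2
  exact ⟨t, h2.trans (H816.OutEmb.index_dvd S (by rw [hA.cent]; exact bot_le)), hD hx⟩

theorem kill_prime (hA : AlmostSimple A S) (hD : charDegrees A ⊆ D) {M : ℕ} (hM : ∀ d ∈ D, d ∣ M) {p : ℕ}
    (hp : p.Prime) (hpM : ¬ p ∣ M) (hpS : p ∣ Nat.card S) : False := by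
  have := hA.simple
  obtain ⟨e, he, hpe⟩ := exists_dvd hA.nonab hp hpS
  obtain ⟨t, -, h2⟩ := exists_over hA hD he
  exact hpM ((hpe.trans (dvd_mul_right e t)).trans (hM _ h2))

theorem kill_two (hA : AlmostSimple A S) (hD : charDegrees A ⊆ D) (hi : Nat.card (Out S) ∣ 2) {d : ℕ}
    (hd : d ∈ charDegrees S) (h1 : d ∉ D) (h2 : d * 2 ∉ D) : False := by
  obtain ⟨t, h3, h4⟩ := exists_over hA hD hd
  rcases (Nat.dvd_prime Nat.prime_two).1 (h3.trans hi) with rfl | rfl
  · rw [mul_one] at h4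
    exact h1 h4
  · exact h2 h4

theorem lie (hA : AlmostSimple A S) (hD : charDegrees A ⊆ D) {p : ℕ} (hp : p.Prime) (hl : IsLieTypeChar p S) :
    ∃ k, 0 < k ∧ p ^ k ∈ D := by
  have := Fact.mk hp
  have := hA.normal
  have := hA.simple
  obtain ⟨χ, hχ, -, hχ1⟩ := H691.StExt.exists_ext S (H996.AllSplit.hasSplit_of_lie hp hl)
  obtain ⟨Q⟩ := (inferInstance : Nonempty (Sylow p S))
  have h1 := hχ1 Q
  rw [Q.card_eq_multiplicity] at h1
  refine ⟨_, ?_, hD (H424.DegTools.mem_charDegrees.2 ⟨χ, hχ, h1⟩)⟩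
  obtain ⟨t, k, hv, ht⟩ := NotCT.exists_typ hp hl
  have ho := NotCT.card_eq hp hv ht
  refine hp.factorization_pos_of_dvd Nat.card_pos.ne' (dvd_trans ?_ (NotCT.dvd_card hp hv ho))
  apply dvd_pow_self
  have h1 := NotCT.one_le_k hv
  have h2 := NotCT.N_pos hv
  have := Nat.mul_pos h1 h2
  omega

theorem alt (hA : AlmostSimple A S) (hD : charDegrees A ⊆ D) {m : ℕ} (h5 : 5 ≤ m)
    (e : S ≃* alternatingGroup (Fin m)) : ∃ t, t ∣ 4 ∧ (m - 1) * t ∈ D := by
  have hs := alternatingGroup.isSimpleGroup (α := Fin m) (by rw [Nat.card_fin]; exact h5)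
  have hna : ¬ IsMulCommutative (alternatingGroup (Fin m)) := fun h => hA.nonab
    ⟨⟨fun x y => e.injective (by rw [map_mul, map_mul]; exact h.is_comm.comm _ _)⟩⟩
  have h2 : m - 1 ∈ charDegrees (alternatingGroup (Fin m)) := by
    refine H424.DegTools.of_two_transitive (Fin m) ?_ (by rw [Nat.card_fin]; omega) (by omega)
    have h3 := alternatingGroup.isMultiplyPretransitive (α := Fin m)
    rw [Nat.card_fin] at h3
    exact MulAction.isMultiplyPretransitive_of_le (n := m - 2) (by omega) (by rw [Nat.card_fin]; omega)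
  obtain ⟨t, h3, h4⟩ := exists_over hA hD (H424.DegTools.charDegrees_of_surjective e.toMonoidHom e.surjective h2)
  refine ⟨t, ?_, h4⟩
  have h6 : Nat.card (Out S) ∣ 4 := by
    rw [H548.Crit.card_out_congr e]
    rcases eq_or_ne m 6 with rfl | h6
    · rw [H548.RowAlt.card_out_six]
    · rw [H548.RowAlt.card_out_alt h5 h6 hs hna]
      norm_num
  exact h3.trans h6

end

end Cfsg.Agent.H701.S8
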